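import Cfsg.Agent.Lib.BlockSections.OrderFour
import Cfsg.Agent.Lib.BlockStar.Watanabe
import Cfsg.Agent.Lib.BrauerPairs.NilpotentRank
import Cfsg.Agent.Lib.BrauerCharacters.InducedDefect
import Cfsg.Agent.S4541
import Cfsg.Agent.S4710
import Mathlib.GroupTheory.GroupAction.Quotient

/-!
# Blocks with an abelian defect group of order eight

The count of characters over the orbits of the inertial quotient excludes five characters with
one Brauer character.
-/

set_option autoImplicit false
set_option linter.style.haveILetI false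
set_option linter.unusedSectionVars false

namespace CfsgLib.SymLocalFive

open Cfsg CfsgLib.CharTheory CfsgLib.BrauerPairs CfsgLib.BrauerCharacters CfsgLib.BlockSections

/-- A subgroup acting by conjugation on a set with stabilisers of constant order. -/
theorem exists_orbit_count {G : Type*} [Group G] [Finite G] (H : Subgroup G) (U : Set G)
    (hU : ∀ t ∈ H, ∀ v ∈ U, t * v * t⁻¹ ∈ U) (c : ℕ)
    (hc : ∀ v ∈ U, Nat.card ↥(H ⊓ Subgroup.centralizer ({v} : Set G)) = c) :
    ∃ j, Nat.card U * c = j * Nat.card H := by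
  classical
  haveI := Fintype.ofFinite G
  letI : MulAction H U :=
    { smul := fun t v => ⟨(t : G) * v * (t : G)⁻¹, hU t t.2 v v.2⟩
      one_smul := fun v => Subtype.ext (by show ((1 : H) : G) * v * _ = (v : G); simp)
      mul_smul := fun s t v => Subtype.ext (by
        show ((s * t : H) : G) * v * _ = (s : G) * ((t : G) * v * (t : G)⁻¹) * (s : G)⁻¹
        simp [mul_assoc]) }
  refine ⟨Nat.card (Quotient (MulAction.orbitRel H U)), ?_⟩
  have hst : ∀ v : U, Nat.card (MulAction.stabilizer H v) = c := fun v => by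
    rw [← hc v v.2]
    refine Nat.card_congr ⟨fun t => ⟨(t.1 : G), t.1.2, ?_⟩, fun t => ⟨⟨t.1, t.2.1⟩, ?_⟩,
      fun t => rfl, fun t => rfl⟩
    · show (t.1 : G) ∈ Subgroup.centralizer ({(v : G)} : Set G)
      have h : (t.1 : G) * v * (t.1 : G)⁻¹ = v := congrArg Subtype.val t.2
      rw [Subgroup.mem_centralizer_singleton_iff]
      exact mul_inv_eq_iff_eq_mul.1 h
    · refine Subtype.ext ?_
      show t.1 * (v : G) * t.1⁻¹ = v
      exact mul_inv_eq_iff_eq_mul.2 (Subgroup.mem_centralizer_singleton_iff.1 t.2.2)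
  rw [Nat.card_congr (MulAction.selfEquivSigmaOrbits H U), Nat.card_sigma, Finset.sum_mul,
    Finset.sum_eq_card_nsmul (b := Nat.card H) fun q _ => ?_, Finset.card_univ,
    ← Nat.card_eq_fintype_card, smul_eq_mul]
  rw [← hst q.out, ← Nat.card_prod,
    Nat.card_congr (MulAction.orbitProdStabilizerEquivGroup H q.out)]

universe u

variable {G : Type u} [Group G] [Finite G] {M : Ideal AlgInt} [M.IsMaximal]
  [CharP (Blocks.Res M) 2] [IsAlgClosed (Blocks.Res M)]
  {B : Set (IrrCharacter G)} {P : Subgroup G} {e : MonoidAlgebra (Blocks.Res M) G}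
  (hM : IsPModular 2 M) (hB : IsPBlock M B)
  (hmax : IsMaxPair 2 (⊤ : Subgroup G) (redElem M (blockCoeff B)) P e)
  (hab : ∀ x ∈ P, ∀ y ∈ P, x * y = y * x)

include hM hB hmax hab

local notation "𝕋" => pairStab (⊤ : Subgroup G) P e

local notation "ℂ𝕘" => Subgroup.centralizer (P : Set G)

theorem index_eq : Nat.card 𝕋 = (ℂ𝕘).relIndex 𝕋 * Nat.card ℂ𝕘 := by
  haveI : M.IsPrime := Blocks.isPrime_of_isPModular hM
  rw [Subgroup.relIndex, ← Subgroup.index_mul_card ((ℂ𝕘).subgroupOf 𝕋),
    Nat.card_congr (Subgroup.subgroupOfEquivOfLe (centralizer_le_stab hM hB hmax)).toEquiv]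

theorem index_odd : ¬ 2 ∣ (ℂ𝕘).relIndex 𝕋 := by
  haveI : M.IsPrime := Blocks.isPrime_of_isPModular hM
  have hidx := hmax.not_dvd_relIndex (isBlockIdem_redElem_blockCoeff (M := M) hB)
  rwa [cenIn_top, sup_eq_right.2 (show P ≤ ℂ𝕘 from fun a ha =>
    Subgroup.mem_centralizer_iff.2 fun b hb => hab b hb a ha)] at hidx

theorem conj_mem {t v : G} (ht : t ∈ 𝕋) (hv : v ∈ P) : t * v * t⁻¹ ∈ P :=
  (Subgroup.mem_normalizer_iff.1 (mem_pairStab.1 ht).2.1 v).1 hv

/-- An element of the stabiliser fixing an involution and one further element centralizes. -/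
theorem mem_centralizer_of_fix_two (h8 : Nat.card P = 8) {u v t : G} (hu : u ∈ P) (hv : v ∈ P)
    (hu1 : u ≠ 1) (hv1 : v ≠ 1) (huv : v ≠ u) (ht : t ∈ 𝕋) (htu : t * u * t⁻¹ = u)
    (htv : t * v * t⁻¹ = v) : t ∈ ℂ𝕘 := by
  classical
  haveI : M.IsPrime := Blocks.isPrime_of_isPModular hM
  set F : Subgroup G := P ⊓ Subgroup.centralizer ({t} : Set G) with hF
  have hfixmem : ∀ w ∈ P, t * w * t⁻¹ = w → w ∈ F := fun w hw h =>
    ⟨hw, Subgroup.mem_centralizer_singleton_iff.2 (mul_inv_eq_iff_eq_mul.1 h).symm⟩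
  have hFfix : ∀ w ∈ F, t * w * t⁻¹ = w := fun w hw =>
    mul_inv_eq_iff_eq_mul.2 (Subgroup.mem_centralizer_singleton_iff.1 hw.2).symm
  have hdvd : Nat.card F ∣ 8 := h8 ▸ Subgroup.card_dvd_of_le inf_le_left
  have h3 : 3 ≤ Nat.card F := by
    have h := Finset.card_le_card_of_injOn (s := ({1, u, v} : Finset G))
      (t := (F : Set G).toFinite.toFinset) id (fun w hw => by
        simp only [Finset.coe_insert, Finset.coe_singleton, Set.mem_insert_iff,
          Set.mem_singleton_iff] at hw
        rw [id, Set.Finite.coe_toFinset]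
        rcases hw with rfl | rfl | rfl
        · exact F.one_mem
        · exact hfixmem _ hu htu
        · exact hfixmem _ hv htv) (Function.injective_id.injOn)
    rw [Finset.card_eq_three.2 ⟨1, u, v, hu1.symm, hv1.symm, huv.symm, rfl⟩,
      ← Set.ncard_eq_toFinset_card _] at h
    exact h
  have hc : ∀ w ∈ P, ∃ c ∈ F, t * w * t⁻¹ = w * c := by
    intro w hw
    by_cases hwF : w ∈ F
    · exact ⟨1, F.one_mem, by rw [hFfix w hwF, mul_one]⟩
    refine ⟨w⁻¹ * (t * w * t⁻¹), ?_, by rw [mul_inv_cancel_left]⟩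
    have hw' : t * w * t⁻¹ ∈ P := conj_mem hM hB hmax hab ht hw
    have hne : Nat.card F ≠ 8 := fun h => hwF (by
      have he : F = P := Subgroup.eq_of_le_of_card_ge (inf_le_left : F ≤ P) (by rw [h8, h])
      rw [he]; exact hw)
    have h4 : Nat.card F = 4 := by
      have := Nat.le_of_dvd (by norm_num) hdvd
      interval_cases h : Nat.card F <;> omega
    have hidx : (F.subgroupOf P).index = 2 := by
      have := Subgroup.index_mul_card (F.subgroupOf P)
      rw [Nat.card_congr (Subgroup.subgroupOfEquivOfLe (inf_le_left : F ≤ P)).toEquiv, h4, h8] at this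
      omega
    have hw'F : t * w * t⁻¹ ∉ F := fun h => hwF (by
      have h' := hFfix _ h
      have : t * w * t⁻¹ = w := by
        have := congrArg (fun z => t⁻¹ * z * t) h'
        simpa [mul_assoc] using this
      rwa [this] at h)
    have := (Subgroup.mul_mem_iff_of_index_two hidx (a := (⟨w, hw⟩ : P)⁻¹)
      (b := ⟨t * w * t⁻¹, hw'⟩)).2 (by simp [Subgroup.mem_subgroupOf, hwF, hw'F])
    simpa [Subgroup.mem_subgroupOf] using this
  have h4t : t * t * (t * t) ∈ ℂ𝕘 := by
    rw [Subgroup.mem_centralizer_iff]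
    intro w hw
    obtain ⟨c, hcF, hwc⟩ := hc w hw
    have htc := hFfix c hcF
    have hit : ∀ z ∈ F, t * (w * z) * t⁻¹ = w * (c * z) := fun z hz => by
      calc t * (w * z) * t⁻¹ = (t * w * t⁻¹) * (t * z * t⁻¹) := by group
        _ = _ := by rw [hwc, hFfix z hz, mul_assoc]
    have e4 : t * t * (t * t) * w * (t * t * (t * t))⁻¹ = w * (c * (c * (c * c))) := by
      calc t * t * (t * t) * w * (t * t * (t * t))⁻¹
          = t * (t * (t * (t * w * t⁻¹) * t⁻¹) * t⁻¹) * t⁻¹ := by group
        _ = _ := by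
          rw [hwc, hit c hcF, hit _ (F.mul_mem hcF hcF),
            hit _ (F.mul_mem hcF (F.mul_mem hcF hcF))]
    have hc4 : c * (c * (c * c)) = 1 := by
      by_cases hwF : w ∈ F
      · have : w * c = w * 1 := by rw [← hwc, hFfix w hwF, mul_one]
        rw [mul_left_cancel this]; simp
      have hlt : Nat.card F ∣ 4 := by
        have hne : Nat.card F ≠ 8 := fun h => hwF (by
          have he : F = P := Subgroup.eq_of_le_of_card_ge (inf_le_left : F ≤ P) (by rw [h8, h])
          rw [he]; exact hw)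
        have := Nat.le_of_dvd (by norm_num) hdvd
        interval_cases h : Nat.card F <;> omega
      have h := pow_card_eq_one' (x := (⟨c, hcF⟩ : F))
      obtain ⟨j, hj⟩ := hlt
      have h' : (⟨c, hcF⟩ : F) ^ 4 = 1 := by rw [hj, pow_mul, h, one_pow]
      have := congrArg Subtype.val h'
      simpa [pow_succ, mul_assoc] using this
    rw [hc4, mul_one] at e4
    exact (mul_inv_eq_iff_eq_mul.1 e4).symm
  exact mem_centralizer_of_sq hM hB hmax rfl hab ht
    (mem_centralizer_of_sq hM hB hmax rfl hab (Subgroup.mul_mem _ ht ht) h4t)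

/-- The defect group of the block below an element. -/
theorem defect_below {u : G} (hu : u ∈ P) :
    IsDefectGroup 2 M (belowBlock (M := M) 2 P e u)
      (P.subgroupOf (Subgroup.centralizer ({u} : Set G))) := by
  classical
  haveI : M.IsPrime := Blocks.isPrime_of_isPModular hM
  have hb := isBlockIdem_redElem_blockCoeff (M := M) hB
  obtain ⟨hbl, hle, -⟩ := belowBlock_spec hM hB hmax hu
  revert hbl hle
  generalize belowBlock (M := M) 2 P e u = b
  intro hbl hle
  have hPN : P ≤ Subgroup.normalizer (Subgroup.zpowers u : Set G) :=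
    le_trans (fun a ha => Subgroup.mem_centralizer_iff.2 fun w hw => hab w (hle.le hw) a ha)
      (Subgroup.centralizer_le_normalizer _)
  obtain ⟨e', hn, hle'⟩ := hle.normalLE_of_le_normalizer hmax.1.1 hle.le le_rfl hPN
  rw [(existsUnique_pairLE hmax.1.1 le_rfl).unique hle' (PairLE.refl _ _ _ _)] at hn
  have hm := hmax.local_of_abelian hb hab hn
  rw [cenIn_top, centralizer_zpowers_eq] at hm
  generalize hCdef : Subgroup.centralizer ({u} : Set G) = C at b hbl hm
  have hbi : IsBlockIdem C (subIdem M C b) := isBlockIdem_subIdem hbl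
  have hPC : P ≤ C := hm.1.1.2.1
  rw [isDefectGroup_sub_iff hM hbl, Subgroup.map_subgroupOf_eq_of_le hPC]
  exact hm.isDefectIn hbi

/-- A freely moved element has a subsection of rank one. -/
theorem blockRank_below_free {u : G} (hu : u ∈ P)
    (hfree : ∀ t ∈ 𝕋, t * u * t⁻¹ = u → t ∈ ℂ𝕘) :
    blockRank 2 (belowBlock (M := M) 2 P e u) = 1 := by
  classical
  haveI : M.IsPrime := Blocks.isPrime_of_isPModular hM
  have hb := isBlockIdem_redElem_blockCoeff (M := M) hB
  obtain ⟨hbl, hle, -⟩ := belowBlock_spec hM hB hmax hu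
  revert hbl hle
  generalize belowBlock (M := M) 2 P e u = b
  intro hbl hle
  have hPN : P ≤ Subgroup.normalizer (Subgroup.zpowers u : Set G) :=
    le_trans (fun a ha => Subgroup.mem_centralizer_iff.2 fun w hw => hab w (hle.le hw) a ha)
      (Subgroup.centralizer_le_normalizer _)
  obtain ⟨e', hn, hle'⟩ := hle.normalLE_of_le_normalizer hmax.1.1 hle.le le_rfl hPN
  rw [(existsUnique_pairLE hmax.1.1 le_rfl).unique hle' (PairLE.refl _ _ _ _)] at hn
  have hm := hmax.local_of_abelian hb hab hn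
  rw [cenIn_top, centralizer_zpowers_eq] at hm
  generalize hCdef : Subgroup.centralizer ({u} : Set G) = C at b hbl hm
  have hbi : IsBlockIdem C (subIdem M C b) := isBlockIdem_subIdem hbl
  have hPC : P ≤ C := hm.1.1.2.1
  have hDG : IsDefectGroup 2 M b (P.subgroupOf C) := by
    rw [isDefectGroup_sub_iff hM hbl, Subgroup.map_subgroupOf_eq_of_le hPC]
    exact hm.isDefectIn hbi
  have hnil : IsNilpotentBlock 2 M b := by
    refine (isNilpotentBlock_sub_iff hM).2 ⟨hbl, (hm.isNilp_iff_of_abelian hbi hab).2 fun t ht => ?_⟩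
    obtain ⟨htC, htN, hte⟩ := mem_pairStab.1 ht
    refine hfree t (mem_pairStab.2 ⟨Subgroup.mem_top t, htN, hte⟩) ?_
    have htu : t ∈ Subgroup.centralizer ({u} : Set G) := hCdef.symm ▸ htC
    rw [Subgroup.mem_centralizer_singleton_iff.1 htu, mul_inv_cancel_right]
  exact (blockRank_eq_one_of_nilpotent_abelian hM hnil hDG fun x hx y hy =>
    Subtype.ext (hab x hx y hy)).1

/-- A fixed involution. -/
theorem fixed_count (hD : IsDefectGroup 2 M B P) (h8 : Nat.card P = 8) {u : G} (hu : u ∈ P)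
    (hu1 : u ≠ 1) (hfix : ∀ t ∈ 𝕋, t * u * t⁻¹ = u) :
    Nat.card B * (ℂ𝕘).relIndex 𝕋 = 2 * blockRank 2 B * (ℂ𝕘).relIndex 𝕋 + 6 ∧
      Nat.card B ≤ 8 := by
  classical
  haveI := Fintype.ofFinite G
  haveI : M.IsPrime := Blocks.isPrime_of_isPModular hM
  have hfree : ∀ v ∈ P, v ≠ 1 → v ≠ u → ∀ t ∈ 𝕋, t * v * t⁻¹ = v → t ∈ ℂ𝕘 :=
    fun v hv hv1 hvu t ht htv =>
      mem_centralizer_of_fix_two hM hB hmax hab h8 hu hv hu1 hv1 hvu ht (hfix t ht) htv
  have h := card_block_mul_card_stab hM hB hmax hab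
  set U := Finset.univ.filter (fun u : G => u ∈ P ∧ u ≠ 1) with hUdef
  have huU : u ∈ U := Finset.mem_filter.2 ⟨Finset.mem_univ _, hu, hu1⟩
  have hU : (U.erase u).card = 6 := by
    have h1 : U.card + 1 = Nat.card P := by
      rw [Nat.card_eq_fintype_card, Fintype.card_subtype,
        show U = (Finset.univ.filter fun u : G => u ∈ P).erase 1 by ext u; simp [U, and_comm],
        Finset.card_erase_add_one (by simp [P.one_mem])]
    rw [Finset.card_erase_of_mem huU]
    omega
  have hl : blockRank 2 B = blockRank 2 (belowBlock (M := M) 2 P e u) :=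
    (BlockStar.counts_eq_of_fixed hM hB hmax hab hu hfix).1
  have hle : 𝕋 ≤ Subgroup.centralizer ({u} : Set G) := fun t ht =>
    Subgroup.mem_centralizer_singleton_iff.2 (mul_inv_eq_iff_eq_mul.1 (hfix t ht))
  rw [← Finset.add_sum_erase _ _ huU, inf_eq_left.2 hle, ← hl,
    Finset.sum_congr rfl (g := fun _ => Nat.card ℂ𝕘) fun v hv => ?_, Finset.sum_const, hU,
    smul_eq_mul, index_eq hM hB hmax hab] at h
  · refine ⟨?_, ?_⟩
    · refine Nat.eq_of_mul_eq_mul_right (Nat.card_pos (α := ℂ𝕘)) ?_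
      linear_combination h
    have hd : blockDefect 2 B = 3 := by
      have h' := Cfsg.Agent.S0908.result 2 M hM B hB P hD
      rw [h8] at h'
      exact Nat.pow_right_injective le_rfl (h'.symm.trans (by norm_num))
    by_cases hpos : ∃ χ ∈ B, 0 < blockHeight 2 B (χ : G → ℂ)
    · have := (Cfsg.Agent.S4710.result 2 M hM B hB 3 hd).1 hpos
      omega
    push Not at hpos
    obtain ⟨v, hv⟩ := Finset.card_pos.1 (show 0 < (U.erase u).card by omega)
    obtain ⟨hvu, hvU⟩ := Finset.mem_erase.1 hv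
    obtain ⟨hvP, hv1⟩ := (Finset.mem_filter.1 hvU).2
    obtain ⟨-, -, hind⟩ := belowBlock_spec hM hB hmax hvP
    have hr := blockRank_below_free hM hB hmax hab hvP fun t ht => hfree v hvP hv1 hvu t ht
    have hk0 := (Cfsg.Agent.S4541.result M hM B hB v (isPElem_of_mem hM hB hmax hvP) _ hind).2.2
      (by omega)
    have hq := blockDefect_le_of_isInducedBlock hM hind
    rw [hd] at hq
    have hall : Nat.card {χ : IrrCharacter G // χ ∈ B ∧ blockHeight 2 B (χ : G → ℂ) = 0} =
        Nat.card B :=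
      Nat.card_congr (Equiv.subtypeEquivRight fun χ => ⟨fun h => h.1,
        fun h => ⟨h, Nat.le_zero.1 (hpos χ h)⟩⟩)
    rw [hall] at hk0
    exact hk0.trans ((Nat.pow_le_pow_right two_pos hq).trans (by norm_num))
  · obtain ⟨hvu, hvU⟩ := Finset.mem_erase.1 hv
    obtain ⟨hvP, hv1⟩ := (Finset.mem_filter.1 hvU).2
    rw [stab_inf_eq hM hB hmax v hvP fun t ht => hfree v hvP hv1 hvu t ht,
      blockRank_below_free hM hB hmax hab hvP fun t ht => hfree v hvP hv1 hvu t ht, mul_one]

/-- At most three Brauer characters below an element of an abelian defect group of order eight. -/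
theorem blockRank_below_le (h8 : Nat.card P = 8) {u : G} (hu : u ∈ P) (hu1 : u ≠ 1) :
    blockRank 2 (belowBlock (M := M) 2 P e u) ≤ 3 := by
  classical
  haveI : M.IsPrime := Blocks.isPrime_of_isPModular hM
  obtain ⟨hbl, -, -⟩ := belowBlock_spec hM hB hmax hu
  have hDG := defect_below hM hB hmax hab hu
  revert hbl hDG
  generalize belowBlock (M := M) 2 P e u = b
  intro hbl hDG
  obtain ⟨eC, heC⟩ := exists_isMaxPair_of_isDefectIn (isBlockIdem_redElem_blockCoeff (M := M) hbl)
    ((isDefectGroup_iff hM hbl).1 hDG)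
  have hPC : P ≤ (Subgroup.centralizer ({u} : Set G)) := fun a ha =>
    Subgroup.mem_centralizer_singleton_iff.2 (hab a ha u hu)
  have h8' : Nat.card (P.subgroupOf (Subgroup.centralizer ({u} : Set G))) = 8 := by
    rw [Nat.card_congr (Subgroup.subgroupOfEquivOfLe hPC).toEquiv, h8]
  have hab' : ∀ x ∈ P.subgroupOf (Subgroup.centralizer ({u} : Set G)), ∀ y ∈ P.subgroupOf (Subgroup.centralizer ({u} : Set G)), x * y = y * x := fun x hx y hy =>
    Subtype.ext (hab x hx y hy)
  obtain ⟨h, hk⟩ := fixed_count hM hbl heC hab' hDG h8' (u := ⟨u, hPC hu⟩) hu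
    (fun h => hu1 (congrArg Subtype.val h)) fun t _ => by
      refine Subtype.ext ?_
      show (t : G) * u * (t : G)⁻¹ = u
      rw [Subgroup.mem_centralizer_singleton_iff.1 t.2, mul_inv_cancel_right]
  by_contra hl
  set r := Subgroup.relIndex (Subgroup.centralizer ((P.subgroupOf (Subgroup.centralizer ({u} : Set G)) : Subgroup (Subgroup.centralizer ({u} : Set G))) : Set (Subgroup.centralizer ({u} : Set G))))
    (pairStab (⊤ : Subgroup (Subgroup.centralizer ({u} : Set G))) (P.subgroupOf (Subgroup.centralizer ({u} : Set G))) eC)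
  have : Nat.card b * r ≤ 2 * blockRank 2 b * r := Nat.mul_le_mul_right _ (by omega)
  omega

/-- Five characters and one Brauer character are impossible. -/
theorem false_of_order_eight (hD : IsDefectGroup 2 M B P) (h8 : Nat.card P = 8)
    (hl : blockRank 2 B = 1) (hk : Nat.card B = 5) : False := by
  classical
  haveI := Fintype.ofFinite G
  haveI : M.IsPrime := Blocks.isPrime_of_isPModular hM
  set T := 𝕋 with hT
  set C := ℂ𝕘 with hC
  have hodd := index_odd hM hB hmax hab
  have hTc := index_eq hM hB hmax hab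
  set r := C.relIndex T with hr
  have hnofix : ∀ u ∈ P, u ≠ 1 → ∃ t ∈ T, t * u * t⁻¹ ≠ u := by
    intro u hu hu1
    by_contra hcon
    push Not at hcon
    obtain ⟨h, -⟩ := fixed_count hM hB hmax hab hD h8 hu hu1 hcon
    rw [hl, hk] at h
    change 5 * r = 2 * 1 * r + 6 at h
    omega
  -- a subgroup of order two stable under the stabiliser is fixed
  have hord2 : ∀ Q : Subgroup G, Q ≤ P → Nat.card Q = 2 →
      (∀ t ∈ T, ∀ x ∈ Q, t * x * t⁻¹ ∈ Q) → False := by
    intro Q hQP h2 hQ
    obtain ⟨a, b, hne, huniv⟩ := (Nat.card_eq_two_iff (α := Q)).1 h2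
    obtain ⟨u, hu1⟩ : ∃ u : Q, u ≠ 1 := by
      rcases eq_or_ne a 1 with rfl | h
      · exact ⟨b, hne.symm⟩
      · exact ⟨a, h⟩
    obtain ⟨t, ht, hne'⟩ := hnofix u (hQP u.2) (fun h => hu1 (Subtype.ext h))
    have hall : ∀ z : Q, z = 1 ∨ z = u := fun z => by
      have h3 : ∀ z : Q, z = a ∨ z = b := fun z => by simpa using huniv.ge (Set.mem_univ z)
      rcases h3 1 with e1 | e1 <;> rcases h3 u with e2 | e2 <;> rcases h3 z with e3 | e3 <;>
        simp_all
    rcases hall ⟨_, hQ t ht u u.2⟩ with h | h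
    · apply hu1
      have h' : t * (u : G) * t⁻¹ = 1 := congrArg Subtype.val h
      exact Subtype.ext (by simpa [mul_assoc] using congrArg (fun z => t⁻¹ * z * t) h')
    · exact hne' (congrArg Subtype.val h)
  have helem : ∀ x ∈ P, x * x = 1 := by
    by_contra hcon
    push Not at hcon
    obtain ⟨x, hx, hxx⟩ := hcon
    let sq : P →* P :=
      { toFun := fun z => z * z
        map_one' := mul_one 1
        map_mul' := fun a b => by
          have h : b * a = a * b := Subtype.ext (hab b b.2 a a.2)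
          calc a * b * (a * b) = a * (b * a) * b := by group
            _ = a * a * (b * b) := by rw [h]; group }
    have hcard := Subgroup.index_ker sq
    have hmul := Subgroup.index_mul_card sq.ker
    rw [hcard, h8] at hmul
    have hR : Nat.card sq.range ≠ 1 := fun h => by
      have h' : sq ⟨x, hx⟩ ∈ sq.range := ⟨_, rfl⟩
      rw [Subgroup.card_eq_one.1 h, Subgroup.mem_bot] at h'
      exact hxx (congrArg Subtype.val h')
    have hK : Nat.card sq.ker ≠ 1 := fun h => by
      haveI : Fintype P := Fintype.ofFinite P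
      obtain ⟨i, hi⟩ := exists_prime_orderOf_dvd_card (G := P) 2 (by
        rw [← Nat.card_eq_fintype_card, h8]; norm_num)
      have hm : i ∈ sq.ker := by
        rw [MonoidHom.mem_ker]
        show i * i = 1
        rw [← pow_two, ← hi, pow_orderOf_eq_one]
      rw [Subgroup.card_eq_one.1 h, Subgroup.mem_bot] at hm
      rw [hm, orderOf_one] at hi
      omega
    have hdiv : Nat.card sq.range ∣ 8 := ⟨_, hmul.symm⟩
    have hle := Nat.le_of_dvd (by norm_num) hdiv
    have h2or : Nat.card sq.range = 2 ∨ Nat.card sq.ker = 2 := by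
      rcases (show Nat.card sq.range = 0 ∨ Nat.card sq.range = 1 ∨ Nat.card sq.range = 2 ∨
          Nat.card sq.range = 4 ∨ Nat.card sq.range = 8 by
        interval_cases h : Nat.card sq.range <;> omega) with h | h | h | h | h <;> rw [h] at hmul <;>
        omega
    rcases h2or with h | h
    · refine hord2 (sq.range.map P.subtype) (Subgroup.map_subtype_le _) (by
        rw [Subgroup.card_map_of_injective P.subtype_injective, h]) ?_
      rintro t ht _ ⟨_, ⟨z, rfl⟩, rfl⟩
      exact ⟨sq ⟨t * z * t⁻¹, conj_mem hM hB hmax hab ht z.2⟩, ⟨_, rfl⟩,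
        show t * z * t⁻¹ * (t * z * t⁻¹) = t * ((z : G) * z) * t⁻¹ by group⟩
    · refine hord2 (sq.ker.map P.subtype) (Subgroup.map_subtype_le _) (by
        rw [Subgroup.card_map_of_injective P.subtype_injective, h]) ?_
      rintro t ht _ ⟨z, hz, rfl⟩
      have hz' : (z : G) * z = 1 := congrArg Subtype.val (MonoidHom.mem_ker.1 hz)
      refine ⟨⟨t * z * t⁻¹, conj_mem hM hB hmax hab ht z.2⟩, ?_, rfl⟩
      refine MonoidHom.mem_ker.2 (Subtype.ext ?_)
      show t * z * t⁻¹ * (t * z * t⁻¹) = 1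
      rw [show t * (z : G) * t⁻¹ * (t * z * t⁻¹) = t * ((z : G) * z) * t⁻¹ by group, hz', mul_one,
        mul_inv_cancel]
  have h := card_block_mul_card_stab hM hB hmax hab
  rw [hl, hk, one_mul, ← hT, hTc] at h
  set U := Finset.univ.filter (fun u : G => u ∈ P ∧ u ≠ 1) with hUdef
  have hU : U.card = 7 := by
    have h1 : U.card + 1 = Nat.card P := by
      rw [Nat.card_eq_fintype_card, Fintype.card_subtype,
        show U = (Finset.univ.filter fun u : G => u ∈ P).erase 1 by ext u; simp [U, and_comm],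
        Finset.card_erase_add_one (by simp [P.one_mem])]
    omega
  set g : G → ℕ := fun v => Nat.card ↥(T ⊓ Subgroup.centralizer ({v} : Set G)) with hg
  set c := Nat.card C with hc
  have hc0 : 0 < c := Nat.card_pos
  have hTU : ∀ t ∈ T, ∀ v ∈ (U : Set G), t * v * t⁻¹ ∈ (U : Set G) := fun t ht v hv => by
    obtain ⟨hvP, hv1⟩ := (Finset.mem_filter.1 (Finset.mem_coe.1 hv)).2
    refine Finset.mem_coe.2 (Finset.mem_filter.2
      ⟨Finset.mem_univ _, conj_mem hM hB hmax hab ht hvP, fun h => hv1 ?_⟩)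
    simpa [mul_assoc] using congrArg (fun z => t⁻¹ * z * t) h
  -- stabilisers have index one or three over the centralizer
  have hstab : ∀ u ∈ U, g u = c ∨ g u = 3 * c := by
    intro u hu
    obtain ⟨huP, hu1⟩ := (Finset.mem_filter.1 hu).2
    set H := T ⊓ Subgroup.centralizer ({u} : Set G) with hH
    have hCH : C ≤ H := le_inf (centralizer_le_stab hM hB hmax)
      (Subgroup.centralizer_le (by simpa using huP))
    obtain ⟨j, hj⟩ := exists_orbit_count H ((U.erase u : Finset G) : Set G) (fun t ht v hv => by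
        obtain ⟨hvu, hvU⟩ := Finset.mem_erase.1 (Finset.mem_coe.1 hv)
        refine Finset.mem_coe.2 (Finset.mem_erase.2 ⟨fun h => hvu ?_,
          Finset.mem_coe.1 (hTU t ht.1 v hvU)⟩)
        have htu := mul_inv_eq_iff_eq_mul.2 (Subgroup.mem_centralizer_singleton_iff.1 ht.2)
        have := congrArg (fun z => t⁻¹ * z * t) (h.trans htu.symm)
        simpa [mul_assoc] using this) c (fun v hv => by
        obtain ⟨hvu, hvU⟩ := Finset.mem_erase.1 (Finset.mem_coe.1 hv)
        obtain ⟨hvP, hv1⟩ := (Finset.mem_filter.1 hvU).2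
        rw [le_antisymm (a := H ⊓ Subgroup.centralizer ({v} : Set G)) (b := C) ?_
          (le_inf hCH (Subgroup.centralizer_le (by simpa using hvP)))]
        intro t ht
        exact mem_centralizer_of_fix_two hM hB hmax hab h8 huP hvP hu1 hv1 hvu ht.1.1
          (mul_inv_eq_iff_eq_mul.2 (Subgroup.mem_centralizer_singleton_iff.1 ht.1.2))
          (mul_inv_eq_iff_eq_mul.2 (Subgroup.mem_centralizer_singleton_iff.1 ht.2)))
    rw [Nat.card_coe_set_eq, Set.ncard_coe_finset, Finset.card_erase_of_mem hu, hU] at hj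
    have hHc : Nat.card H = C.relIndex H * c := by
      rw [Subgroup.relIndex, ← Subgroup.index_mul_card (C.subgroupOf H),
        Nat.card_congr (Subgroup.subgroupOfEquivOfLe hCH).toEquiv]
    rw [hHc, ← mul_assoc] at hj
    have h6 : C.relIndex H ∣ 6 := ⟨j, by
      rw [mul_comm]; exact Nat.eq_of_mul_eq_mul_right hc0 hj⟩
    have hHodd : ¬ 2 ∣ C.relIndex H := fun h2 => hodd (h2.trans ⟨H.relIndex T, by
      rw [hr, ← Subgroup.relIndex_mul_relIndex C H T hCH inf_le_left]⟩)
    have := Nat.le_of_dvd (by norm_num) h6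
    show Nat.card H = c ∨ Nat.card H = 3 * c
    rw [hHc]
    interval_cases h' : C.relIndex H <;> omega
  have hrank : ∀ u ∈ U, (g u = c → blockRank 2 (belowBlock (M := M) 2 P e u) = 1) ∧
      blockRank 2 (belowBlock (M := M) 2 P e u) ≤ 3 := by
    intro u hu
    obtain ⟨huP, hu1⟩ := (Finset.mem_filter.1 hu).2
    refine ⟨fun hgu => blockRank_below_free hM hB hmax hab huP fun t ht htu => ?_,
      blockRank_below_le hM hB hmax hab h8 huP hu1⟩
    have hle : C ≤ T ⊓ Subgroup.centralizer ({u} : Set G) := le_inf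
      (centralizer_le_stab hM hB hmax) (Subgroup.centralizer_le (by simpa using huP))
    show t ∈ C
    rw [Subgroup.eq_of_le_of_card_ge hle hgu.le]
    exact ⟨ht, Subgroup.mem_centralizer_singleton_iff.2 (mul_inv_eq_iff_eq_mul.1 htu)⟩
  -- the orbit of an element has at most seven members
  have hseven : ∀ u ∈ U, Nat.card T ≤ 7 * g u := by
    intro u hu
    letI : MulAction T (U : Set G) :=
      { smul := fun t v => ⟨(t : G) * v * (t : G)⁻¹, hTU t t.2 v v.2⟩
        one_smul := fun v => Subtype.ext (by show ((1 : T) : G) * v * _ = (v : G); simp)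
        mul_smul := fun s t v => Subtype.ext (by
          show ((s * t : T) : G) * v * _ = (s : G) * ((t : G) * v * (t : G)⁻¹) * (s : G)⁻¹
          simp [mul_assoc]) }
    set v : (U : Set G) := ⟨u, hu⟩
    have e1 := Nat.card_congr (MulAction.orbitProdStabilizerEquivGroup T v)
    have e2 : Nat.card (MulAction.stabilizer T v) = g u := by
      refine Nat.card_congr ⟨fun t => ⟨(t.1 : G), t.1.2, ?_⟩, fun t => ⟨⟨t.1, t.2.1⟩, ?_⟩,
        fun t => rfl, fun t => rfl⟩
      · show (t.1 : G) ∈ Subgroup.centralizer ({u} : Set G)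
        have h : (t.1 : G) * u * (t.1 : G)⁻¹ = u := congrArg Subtype.val t.2
        exact Subgroup.mem_centralizer_singleton_iff.2 (mul_inv_eq_iff_eq_mul.1 h)
      · refine Subtype.ext ?_
        show t.1 * u * t.1⁻¹ = u
        exact mul_inv_eq_iff_eq_mul.2 (Subgroup.mem_centralizer_singleton_iff.1 t.2.2)
    rw [← e1, Nat.card_prod, e2]
    refine Nat.mul_le_mul_right _ ((Finite.card_subtype_le _).trans ?_)
    rw [Nat.card_coe_set_eq, Set.ncard_coe_finset, hU]
  by_cases h1 : ∀ u ∈ U, g u = c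
  · rw [Finset.sum_congr rfl (g := fun _ => c) fun u hu => by
      rw [(hrank u hu).1 (h1 u hu), mul_one]; exact h1 u hu, Finset.sum_const, hU, smul_eq_mul] at h
    have h' : 5 * r * c = r * c + 7 * c := by rw [mul_assoc]; exact h
    have : 5 * r = r + 7 := Nat.eq_of_mul_eq_mul_right hc0 (by rw [add_mul]; exact h')
    omega
  push Not at h1
  obtain ⟨u1, hu1, hne1⟩ := h1
  have hg1 : g u1 = 3 * c := (hstab u1 hu1).resolve_left hne1
  have h3r : r ≠ 3 := by
    intro h3
    obtain ⟨huP, hu11⟩ := (Finset.mem_filter.1 hu1).2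
    obtain ⟨t, ht, hne⟩ := hnofix u1 huP hu11
    have he : T ⊓ Subgroup.centralizer ({u1} : Set G) = T := Subgroup.eq_of_le_of_card_ge inf_le_left
      (by show Nat.card T ≤ g u1; rw [hg1, hTc, h3])
    have := (he.symm ▸ ht : t ∈ T ⊓ Subgroup.centralizer ({u1} : Set G)).2
    exact hne (mul_inv_eq_iff_eq_mul.2 (Subgroup.mem_centralizer_singleton_iff.1 this))
  have h3dvd : 3 ∣ r := by
    refine ⟨(T ⊓ Subgroup.centralizer ({u1} : Set G)).relIndex T, ?_⟩
    have e0 : (T ⊓ Subgroup.centralizer ({u1} : Set G)).relIndex T * g u1 = Nat.card T := by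
      show _ * Nat.card ↥(T ⊓ Subgroup.centralizer ({u1} : Set G)) = _
      rw [Subgroup.relIndex, ← Nat.card_congr (Subgroup.subgroupOfEquivOfLe (inf_le_left :
        T ⊓ Subgroup.centralizer ({u1} : Set G) ≤ T)).toEquiv, Subgroup.index_mul_card]
    refine Nat.eq_of_mul_eq_mul_right hc0 ?_
    rw [hg1] at e0
    have hTc' : Nat.card T = r * c := hTc
    rw [← hTc', ← e0]; ring
  by_cases h2 : ∃ u ∈ U, g u = c
  · obtain ⟨u, hu, hgu⟩ := h2
    have h7 := hseven u hu
    rw [hgu, hTc] at h7
    have := Nat.le_of_mul_le_mul_right h7 hc0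
    omega
  push Not at h2
  have hall : ∀ u ∈ U, g u = 3 * c := fun u hu => (hstab u hu).resolve_left (h2 u hu)
  obtain ⟨j, hj⟩ := exists_orbit_count T (U : Set G) hTU (3 * c) fun v hv =>
    hall v (Finset.mem_coe.1 hv)
  rw [Nat.card_coe_set_eq, Set.ncard_coe_finset, hU, hTc, ← mul_assoc, ← mul_assoc] at hj
  have h21 : 21 = j * r := Nat.eq_of_mul_eq_mul_right hc0 (by omega)
  have hsum : ∑ u ∈ U, g u * blockRank 2 (belowBlock (M := M) 2 P e u) ≤ 63 * c := by
    calc _ ≤ ∑ _u ∈ U, 3 * c * 3 := Finset.sum_le_sum fun u hu => by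
            rw [hall u hu]; exact Nat.mul_le_mul_left _ (hrank u hu).2
      _ = _ := by rw [Finset.sum_const, hU, smul_eq_mul]; ring
  have hle : r ≤ 21 := Nat.le_of_dvd (by norm_num) ⟨j, by rw [h21, mul_comm]⟩
  have hr21 : r = 21 := by
    have hrd : r ∣ 21 := ⟨j, by rw [h21, mul_comm]⟩
    obtain ⟨i, hi⟩ := h3dvd
    interval_cases r <;> omega
  rw [hr21] at h
  change 5 * (21 * c) = 21 * c + ∑ u ∈ U, g u * blockRank 2 (belowBlock (M := M) 2 P e u) at h
  omega

end CfsgLib.SymLocalFive
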